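import Cfsg.Agent.SemiCyclic.Model.Auto

/-!
# A normal `SL(2, p)` or `PSL(2, p)` and its centralizer generate a subgroup of index at most 2
-/

set_option autoImplicit false
set_option linter.unusedSectionVars false

namespace Cfsg.Lib.SemiCyclic

open Matrix Cfsg.Lib.Known.AutPSL2

universe u v

variable {p : ℕ} [Fact p.Prime]

local notation "F" => ZMod p
local notation "SL" => Matrix.SpecialLinearGroup (Fin 2) (ZMod p)
local notation "PSL" => Matrix.ProjectiveSpecialLinearGroup (Fin 2) (ZMod p)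

theorem conjSL_toGL (N : SL) : conjSL (Matrix.SpecialLinearGroup.toGL N) = MulAut.conj N := by
  refine MulEquiv.ext fun M => ?_
  rw [MulAut.conj_apply, eq_mul_inv_iff_mul_eq]
  refine sl_ext ?_
  rw [cmul, cmul, coe_conjSL, show (N : Matrix (Fin 2) (Fin 2) F) = (Matrix.SpecialLinearGroup.toGL N).val from rfl,
    mul_assoc, ← Units.val_mul, inv_mul_cancel, Units.val_one, mul_one]

/-- A matrix of square determinant induces an inner automorphism. -/
theorem conjSL_of_square {g : GL (Fin 2) F} (hg : IsSquare (g : Matrix (Fin 2) (Fin 2) F).det) :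
    ∃ N : SL, conjSL g = MulAut.conj N := by
  obtain ⟨c, hc⟩ := hg
  have hc0 : c ≠ 0 := fun h => ((Matrix.isUnit_iff_isUnit_det _).1 g.isUnit).ne_zero (by rw [hc, h, mul_zero])
  have hd : (c⁻¹ • (g : Matrix (Fin 2) (Fin 2) F)).det = 1 := by
    rw [det_smul, hc, Fintype.card_fin]
    field_simp
  let N : SL := ⟨_, hd⟩
  refine ⟨N, MulEquiv.ext fun M => ?_⟩
  rw [MulAut.conj_apply, eq_mul_inv_iff_mul_eq]
  refine sl_ext ?_
  rw [cmul, cmul, coe_conjSL]
  show _ * c⁻¹ • (g : Matrix (Fin 2) (Fin 2) F) = c⁻¹ • (g : Matrix (Fin 2) (Fin 2) F) * _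
  rw [Matrix.mul_smul, Matrix.smul_mul, mul_assoc, ← Units.val_mul, inv_mul_cancel, Units.val_one, mul_one]

theorem liftPSL_conj (N : SL) :
    liftPSL (MulAut.conj N) = MulAut.conj (QuotientGroup.mk N : PSL) :=
  MulEquiv.ext fun x => QuotientGroup.induction_on x fun _ => rfl

/-- Automorphisms of `PSL(2, p)`. -/
theorem aut_PSL2_prime (α : MulAut PSL) : ∃ g : GL (Fin 2) F, α = liftPSL (conjSL g) := by
  have hF : Fintype.card F = p ^ 1 := by rw [ZMod.card, pow_one]
  obtain ⟨g, a, σ, hα⟩ := exists_decomp p le_rfl hF α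
  obtain ⟨N, rfl⟩ := QuotientGroup.mk_surjective g
  have hσ : σ = 1 := AlgEquiv.ext fun x => by
    have := σ.commutes x
    simpa using this
  refine ⟨Matrix.SpecialLinearGroup.toGL N * diagGL a, ?_⟩
  rw [map_mul, map_mul, conjSL_toGL, liftPSL_conj, hα, hσ, map_one, mul_one]
  rfl

theorem index_dvd_two_of_or {H : Type u} [Group H] (K : Subgroup H)
    (h : ∀ a b : H, a ∉ K → b ∉ K → a * b ∈ K) : K.index ∣ 2 := by
  by_cases hK : K = ⊤
  · rw [hK, Subgroup.index_top]; exact one_dvd _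
  · obtain ⟨a, -, ha⟩ := SetLike.exists_of_lt (lt_top_iff_ne_top.2 hK)
    refine dvd_of_eq (Subgroup.index_eq_two_iff.2 ⟨a, fun b => ?_⟩)
    by_cases hb : b ∈ K
    · exact Or.inr ⟨hb, fun hba => ha (by simpa using mul_mem (inv_mem hb) hba)⟩
    · exact Or.inl ⟨h b a hb ha, hb⟩

/-- The general form: `ψ` is onto and sends matrices of square determinant to inner automorphisms. -/
theorem index_dvd_two_of_param {H : Type u} [Group H] {L : Type v} [Group L] (ψ : GL (Fin 2) F →* MulAut L)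
    (hs : Function.Surjective ψ)
    (hsq : ∀ g : GL (Fin 2) F, IsSquare (g : Matrix (Fin 2) (Fin 2) F).det → ∃ l : L, ψ g = MulAut.conj l)
    (N : Subgroup H) [N.Normal] (e : ↥N ≃* L) : (N ⊔ Subgroup.centralizer (N : Set H)).index ∣ 2 := by
  set K := N ⊔ Subgroup.centralizer (N : Set H)
  let φ : H →* MulAut L := (MulAut.congr e).toMonoidHom.comp MulAut.conjNormal
  have hφ : ∀ (h : H) (n : N), φ h (e n) = e (MulAut.conjNormal h n) := fun h n => by
    show e (MulAut.conjNormal h (e.symm (e n))) = _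
    rw [MulEquiv.symm_apply_apply]
  have hin : ∀ (h : H) (l : L), φ h = MulAut.conj l → h ∈ K := by
    intro h l hl
    set n := e.symm l
    have hc : (n : H)⁻¹ * h ∈ Subgroup.centralizer (N : Set H) := by
      refine Subgroup.mem_centralizer_iff.2 fun m hm => ?_
      have h1 := hφ h ⟨m, hm⟩
      rw [hl, MulAut.conj_apply, show l = e n from (e.apply_symm_apply l).symm, ← map_inv, ← map_mul, ← map_mul,
        e.injective.eq_iff] at h1
      have h2 : (n : H) * m * (n : H)⁻¹ = h * m * h⁻¹ := by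
        have := congrArg Subtype.val h1
        simpa [MulAut.conjNormal_apply] using this
      calc m * ((n : H)⁻¹ * h) = (n : H)⁻¹ * ((n : H) * m * (n : H)⁻¹) * h := by group
        _ = (n : H)⁻¹ * h * m := by rw [h2]; group
    rw [show h = (n : H) * ((n : H)⁻¹ * h) by group]
    exact mul_mem (Subgroup.mem_sup_left n.2) (Subgroup.mem_sup_right hc)
  refine index_dvd_two_of_or K fun a b ha hb => ?_
  obtain ⟨g, hg⟩ := hs (φ a)
  obtain ⟨g', hg'⟩ := hs (φ b)
  obtain ⟨l, hl⟩ := hsq (g * g') (by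
    have h1 : ¬ IsSquare (g : Matrix (Fin 2) (Fin 2) F).det := fun h => by
      obtain ⟨l, hl⟩ := hsq g h
      exact ha (hin a l (hg.symm.trans hl))
    have h2 : ¬ IsSquare (g' : Matrix (Fin 2) (Fin 2) F).det := fun h => by
      obtain ⟨l, hl⟩ := hsq g' h
      exact hb (hin b l (hg'.symm.trans hl))
    rw [Units.val_mul, det_mul, ← quadraticChar_one_iff_isSquare (mul_ne_zero
      ((Matrix.isUnit_iff_isUnit_det _).1 g.isUnit).ne_zero ((Matrix.isUnit_iff_isUnit_det _).1 g'.isUnit).ne_zero),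
      map_mul, quadraticChar_neg_one_iff_not_isSquare.2 h1, quadraticChar_neg_one_iff_not_isSquare.2 h2]
    norm_num)
  exact hin _ l (by rw [map_mul, ← hg, ← hg', ← map_mul, hl])

theorem index_dvd_two_of_sl (hp : p ≠ 2) {H : Type u} [Group H] (N : Subgroup H) [N.Normal] (e : ↥N ≃* SL) :
    (N ⊔ Subgroup.centralizer (N : Set H)).index ∣ 2 :=
  index_dvd_two_of_param conjSL (fun α => (aut_SL2 hp α).imp fun _ h => h.symm) (fun _ h => conjSL_of_square h) N e

theorem index_dvd_two_of_psl {H : Type u} [Group H] (N : Subgroup H) [N.Normal] (e : ↥N ≃* PSL) :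
    (N ⊔ Subgroup.centralizer (N : Set H)).index ∣ 2 :=
  index_dvd_two_of_param (liftPSL.comp conjSL) (fun α => (aut_PSL2_prime α).imp fun _ h => h.symm) (fun g h => by
    obtain ⟨n, hn⟩ := conjSL_of_square h
    exact ⟨_, by rw [MonoidHom.comp_apply, hn, liftPSL_conj]⟩) N e

end Cfsg.Lib.SemiCyclic
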