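import Cfsg.Agent.SemiCyclic.Reduce.Perfect
import Cfsg.Agent.SemiCyclic.Reduce.Aut
import Cfsg.Agent.Classical.Misc.SLTwoTori
import Cfsg.Agent.Components.PComponents
import Cfsg.Agent.SemiCyclic.Spec
import Cfsg.Agent.SemiCyclic.Kill.Main
import Cfsg.Agent.SemiCyclic.Count.Main
import Cfsg.Agent.SemiCyclic.Model.Main
import Cfsg.Agent.S1240

/-!
# No perfect group of this kind has semidihedral Sylow 2-subgroups
-/

set_option autoImplicit false
set_option linter.style.haveILetI false
set_option linter.unusedSectionVars false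

namespace Cfsg.Lib.SemiCyclic

open Subgroup
open scoped MatrixGroups

universe u

section Extension

variable {p : ℕ} [Fact p.Prime]

theorem sl_invol (hp : p ≠ 2) {M : SL(2, ZMod p)} (h : orderOf M = 2) : M = -1 := by
  have h2 : M = M⁻¹ := eq_inv_of_mul_eq_one_left (by rw [← pow_two]; exact orderOf_dvd_iff_pow_eq_one.1 (dvd_of_eq h))
  have h' := congrArg (fun A : SL(2, ZMod p) => (A : Matrix (Fin 2) (Fin 2) (ZMod p))) h2
  simp only [Matrix.SpecialLinearGroup.coe_inv, Matrix.adjugate_fin_two] at h'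
  have e00 := congrFun (congrFun h' 0) 0
  have e01 := congrFun (congrFun h' 0) 1
  have e10 := congrFun (congrFun h' 1) 0
  simp at e00 e01 e10
  have two := two_ne hp
  have z01 : (M : Matrix (Fin 2) (Fin 2) (ZMod p)) 0 1 = 0 :=
    (mul_eq_zero.1 (show (2 : ZMod p) * _ = 0 by linear_combination e01)).resolve_left two
  have z10 : (M : Matrix (Fin 2) (Fin 2) (ZMod p)) 1 0 = 0 :=
    (mul_eq_zero.1 (show (2 : ZMod p) * _ = 0 by linear_combination e10)).resolve_left two
  have hd := M.2
  rw [Matrix.det_fin_two, z01, ← e00, zero_mul, sub_zero, mul_self_eq_one_iff] at hd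
  rcases hd with hd | hd
  · exfalso
    have : M = 1 := by
      ext i j; fin_cases i <;> fin_cases j <;> simp [z01, z10, hd, ← e00]
    rw [this, orderOf_one] at h
    omega
  · ext i j; fin_cases i <;> fin_cases j <;> simp [z01, z10, hd, ← e00]

theorem neg_one_order (hp : p ≠ 2) : orderOf (-1 : SL(2, ZMod p)) = 2 := by
  haveI : Fact (Nat.Prime 2) := ⟨Nat.prime_two⟩
  refine orderOf_eq_prime neg_one_sq fun h => ?_
  have h1 := congrArg (fun A : SL(2, ZMod p) => (A : Matrix (Fin 2) (Fin 2) (ZMod p)) 0 0) h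
  simp at h1
  exact two_ne hp (by linear_combination -h1)

/-- `SL(2, p)` normal in a group with semidihedral Sylow 2-subgroups and trivial odd core has index 2. -/
theorem sl_extension {H : Type u} [Group H] [Finite H] (hp : p ≠ 2) (N : Subgroup H) [hN : N.Normal]
    (e : ↥N ≃* SL(2, ZMod p)) (hO : Cfsg.oddCore H = ⊥)
    (hsd : ∀ T : Sylow 2 H, Cfsg.IsQuasiDihedral ↥(T : Subgroup H)) :
    N.index = 2 ∧ ∃ u : H, u ∉ N ∧ orderOf u = 2 := by
  haveI : Fact (Nat.Prime 2) := ⟨Nat.prime_two⟩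
  obtain ⟨i, j, hne, hQ⟩ := Cfsg.Lib.Classical.SLTwoTori.exists_quaternion_pair (F := ZMod p) (two_ne hp)
  set f : SL(2, ZMod p) →* H := N.subtype.comp e.symm.toMonoidHom
  have hfi : Function.Injective f := N.subtype_injective.comp e.symm.injective
  set q : H := f (-1)
  have hqo : orderOf q = 2 := (orderOf_injective f hfi _).trans (neg_one_order hp)
  have hqu : ∀ v : H, v ∈ N → orderOf v = 2 → v = q := fun v hv ho => by
    have h1 : e ⟨v, hv⟩ = -1 := sl_invol hp (by rw [MulEquiv.orderOf_eq, Subgroup.orderOf_mk, ho])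
    show v = (e.symm (-1) : H)
    rw [← h1, MulEquiv.symm_apply_apply]
  have hqN : q ∈ N := (e.symm _).2
  have hqc : q ∈ center H := mem_center_iff.2 fun g => by
    have := hqu (g * q * g⁻¹) (hN.conj_mem _ hqN g) (by rw [← MulAut.conj_apply, MulEquiv.orderOf_eq, hqo])
    exact mul_inv_eq_iff_eq_mul.1 this
  haveI : (zpowers q).Normal := ⟨fun n hn g => by
    have hc : n ∈ center H := zpowers_le.2 hqc hn
    rwa [mem_center_iff.1 hc g, mul_inv_cancel_right]⟩
  have hZ : IsPGroup 2 (zpowers q) := IsPGroup.of_card (n := 1) (by rw [Nat.card_zpowers, hqo, pow_one])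
  obtain ⟨T, hT⟩ := ((hQ.map f).to_sup_of_normal_right hZ).exists_le_sylow
  have hmem : ∀ M ∈ Subgroup.closure ({i, j} : Set SL(2, ZMod p)), f M ∈ T := fun M hM =>
    hT (mem_sup_left (mem_map_of_mem f hM))
  have hqT : q ∈ T := hT (mem_sup_right (mem_zpowers q))
  obtain ⟨m, a, b, hg⟩ := Cfsg.Lib.QD.exists_gen (hsd T)
  set X : (T : Subgroup H) := ⟨f i, hmem i (subset_closure (by simp))⟩
  set Y : (T : Subgroup H) := ⟨f j, hmem j (subset_closure (by simp))⟩
  have hXY : X * Y ≠ Y * X := fun h => hne (hfi (by rw [map_mul, map_mul]; exact congrArg Subtype.val h))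
  set Q' : (T : Subgroup H) := ⟨q, hqT⟩
  set z := a ^ ((2 : ℤ) ^ (m - 1)) with hz
  have hQz : Q' = z := (qd_centralizes_pair hg (v := Q') (Subtype.ext (mem_center_iff.1 hqc _).symm)
    (Subtype.ext (mem_center_iff.1 hqc _).symm) hXY).resolve_left fun h => by
      have : q = 1 := congrArg Subtype.val h
      rw [this, orderOf_one] at hqo
      omega
  -- the involution outside
  have hbo : orderOf b = 2 := by
    have := (Cfsg.Lib.QD.orderOf_b hg 0).1 (dvd_zero 2)
    rwa [zpow_zero, one_mul] at this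
  have hbN : (b : H) ∉ N := fun hbN => by
    have h1 : b = Q' := Subtype.ext (hqu b hbN (by rw [Subgroup.orderOf_coe, hbo]))
    exact hg.2.notMem (by rw [h1, hQz, hz]; exact zpow_mem (mem_zpowers a) _)
  -- the centralizer
  set C := centralizer (N : Set H) with hC
  haveI hCn : C.Normal := by rw [hC]; exact Subgroup.normal_centralizer
  have hCN : C ≤ N := by
    have key : ∀ v ∈ C, IsPGroup 2 (zpowers v) → v = 1 ∨ v = q := by
      intro v hv hv2
      obtain ⟨T', hT'⟩ := hv2.exists_le_sylow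
      obtain ⟨g, hg'⟩ := MulAction.exists_smul_eq H T' T
      have hm : g * v * g⁻¹ ∈ T := by rw [← hg']; exact ⟨v, hT' (mem_zpowers v), rfl⟩
      have hcm : ∀ M : SL(2, ZMod p), Commute (g * v * g⁻¹) (f M) := fun M =>
        (mem_centralizer_iff.1 (hCn.conj_mem v hv g) _ (e.symm M).2).symm
      rcases qd_centralizes_pair hg (v := (⟨_, hm⟩ : (T : Subgroup H))) (Subtype.ext (hcm i).eq)
        (Subtype.ext (hcm j).eq) hXY with h | h
      · exact Or.inl (conj_eq_one_iff.1 (congrArg Subtype.val h))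
      · refine Or.inr ?_
        rw [← hz, ← hQz] at h
        have h' : g * v * g⁻¹ = q := congrArg Subtype.val h
        calc v = g⁻¹ * (g * v * g⁻¹) * g := by group
          _ = q := by rw [h', mul_assoc, ← mem_center_iff.1 hqc g, inv_mul_cancel_left]
    have hqC : q ∈ C := mem_centralizer_iff.2 fun n _ => mem_center_iff.1 hqc n
    obtain ⟨R⟩ : Nonempty (Sylow 2 C) := inferInstance
    have hR : ∀ w : C, w ∈ R → (w : H) = 1 ∨ (w : H) = q := fun w hw => key _ w.2 (by
      rw [show zpowers (w : H) = (zpowers w).map C.subtype by rw [MonoidHom.map_zpowers]; rfl]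
      exact (R.2.to_le (zpowers_le.2 hw)).map _)
    have hRc : ∀ w : C, w ∈ R → w ∈ center C := fun w hw => mem_center_iff.2 fun v => Subtype.ext (by
      rcases hR w hw with h | h <;> simp only [Subgroup.coe_mul, h]
      · simp
      · exact mem_center_iff.1 hqc v)
    have hNC : normalizer ((R : Subgroup C) : Set C) ≤ centralizer ((R : Subgroup C) : Set C) :=
      fun y _ => mem_centralizer_iff.2 fun w hw => (mem_center_iff.1 (hRc w hw) y).symm
    have hcomp := MonoidHom.ker_transferSylow_isComplement' R hNC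
    set φ := MonoidHom.transferSylow R hNC
    set K : Subgroup H := φ.ker.map C.subtype with hK
    have hodd : Odd (Nat.card φ.ker) := by
      rw [← hcomp.index_eq_card, Nat.odd_iff]
      have := R.not_dvd_index
      omega
    haveI : K.Normal := ⟨by
      rintro _ ⟨k, hk, rfl⟩ g
      set y : C := ⟨g * C.subtype k * g⁻¹, hCn.conj_mem _ k.2 g⟩
      refine ⟨y, MonoidHom.mem_ker.2 ?_, rfl⟩
      have hy : y ^ Nat.card φ.ker = 1 := Subtype.ext (by
        rw [SubmonoidClass.coe_pow, conj_pow, Subgroup.coe_subtype, ← SubmonoidClass.coe_pow,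
          show k ^ Nat.card φ.ker = 1 from congrArg Subtype.val (pow_card_eq_one' (x := (⟨k, hk⟩ : φ.ker)))]
        simp)
      have h2 : (φ y) ^ 2 = 1 := Subtype.ext (Subtype.ext (by
        rcases hR _ (φ y).2 with h | h <;> simp only [SubmonoidClass.coe_pow, h, OneMemClass.coe_one, one_pow]
        rw [← hqo, pow_orderOf_eq_one]))
      have h1 : orderOf (φ y) ∣ Nat.gcd (Nat.card φ.ker) 2 :=
        Nat.dvd_gcd (orderOf_dvd_of_pow_eq_one (by rw [← map_pow, hy, map_one])) (orderOf_dvd_of_pow_eq_one h2)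
      rw [Nat.coprime_two_right.2 hodd, Nat.dvd_one, orderOf_eq_one_iff] at h1
      exact h1⟩
    have hKbot : K = ⊥ := le_bot_iff.1 (hO ▸ Cfsg.Lib.Components.le_pPrimeCore (p := 2) (by
      rw [hK, card_map_of_injective C.subtype_injective]
      exact Nat.coprime_two_right.2 hodd))
    rw [hK, map_eq_bot_iff_of_injective _ C.subtype_injective] at hKbot
    rw [hKbot, isComplement'_bot_left] at hcomp
    intro v hv
    rcases hR ⟨v, hv⟩ (show _ ∈ (R : Subgroup C) by rw [hcomp]; exact mem_top _) with h | h <;> rw [show v = _ from h]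
    exacts [one_mem _, hqN]
  refine ⟨?_, b, hbN, by rw [Subgroup.orderOf_coe, hbo]⟩
  rcases (Nat.dvd_prime Nat.prime_two).1 (sup_eq_left.2 hCN ▸ index_dvd_two_of_sl hp N e) with h | h
  · exact absurd ((index_eq_one.1 h).symm ▸ mem_top _) hbN
  · exact h

end Extension

/-- Semidihedral Sylow 2-subgroups do not occur. -/
theorem sdFree : SDFree.{u} := by
  intro G _ _ hP hsd hodd
  haveI : Fact (Nat.Prime 2) := ⟨Nat.prime_two⟩
  haveI := Fintype.ofFinite G
  obtain ⟨S⟩ : Nonempty (Sylow 2 G) := inferInstance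
  obtain ⟨m, a, b, hg⟩ := Cfsg.Lib.QD.exists_gen (hsd S)
  set zS := a ^ ((2 : ℤ) ^ (m - 1)) with hzS
  set z : G := (zS : G) with hz
  have hzo : orderOf z = 2 := by rw [hz, Subgroup.orderOf_coe, hzS, Cfsg.Lib.QD.orderOf_z hg]
  have hA : (zpowers a).index = 2 := by
    have h1 := (zpowers a).card_mul_index
    rw [Nat.card_zpowers, hg.2.ord, hg.2.card, pow_succ] at h1
    exact Nat.eq_of_mul_eq_mul_left (Nat.two_pow_pos _) h1
  have hconj : ∀ s : G, orderOf s = 2 → IsConj z s := fun s hs => by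
    obtain ⟨g, c, hc, hgc⟩ := conj_into_cyclic hP S (zpowers a) hA hs
    obtain ⟨k, rfl⟩ := mem_zpowers_iff.1 hc
    have hco : orderOf (a ^ k) = 2 := by
      rw [← Subgroup.orderOf_coe, ← hgc, show g⁻¹ * s * g = MulAut.conj g⁻¹ s by simp, MulEquiv.orderOf_eq, hs]
    rw [(Cfsg.Lib.QD.zpow_order_two hg).1 hco, ← hzS, ← hz] at hgc
    exact isConj_iff.2 ⟨g, by rw [← hgc]; group⟩
  set C := centralizer ({z} : Set G)
  have hSC : (S : Subgroup G) ≤ C := fun v hv => mem_centralizer_singleton_iff.2 (by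
    rcases Cfsg.Lib.CyclicMax.cases hg.2 (⟨v, hv⟩ : (S : Subgroup G)) with ⟨k, hk⟩ | ⟨k, hk⟩
    all_goals
      rw [show v = ((⟨v, hv⟩ : (S : Subgroup G)) : G) from rfl, hk, hz, ← Subgroup.coe_mul, ← Subgroup.coe_mul]
      refine congrArg Subtype.val (Commute.eq ?_)
    · exact Commute.zpow_zpow_self a k _
    · exact (Commute.zpow_zpow_self a k _).mul_left ((Cfsg.Lib.QD.zpow_comm_b_iff hg _).2 (Or.inr rfl)))
  set SC : Sylow 2 C := S.subtype hSC
  set K := Cfsg.oddCore C with hK
  haveI : K.Normal := by rw [hK]; exact (inferInstance : (Cfsg.pPrimeCore 2 C).Normal)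
  have hKodd : Odd (Nat.card K) := Nat.coprime_two_right.1 (Cfsg.Lib.Components.coprime_card_pPrimeCore 2)
  set π := QuotientGroup.mk' K
  set T := SC.mapSurjective (QuotientGroup.mk'_surjective K)
  have hTsd : Cfsg.IsQuasiDihedral ((T : Sylow 2 (C ⧸ K)) : Subgroup (C ⧸ K)) := by
    have hinj : Function.Injective (π.subgroupMap (SC : Subgroup C)) := by
      rw [injective_iff_map_eq_one]
      intro v hv
      have h1 : (v : C) ∈ K := (QuotientGroup.eq_one_iff _).1 (congrArg Subtype.val hv)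
      obtain ⟨k, hk⟩ := SC.2 v
      have h2 : orderOf (v : C) ∣ Nat.gcd (Nat.card K) (2 ^ k) := Nat.dvd_gcd (K.orderOf_dvd_natCard h1)
        (orderOf_dvd_of_pow_eq_one (by rw [← SubmonoidClass.coe_pow, hk]; rfl))
      rw [(Nat.coprime_two_right.2 hKodd).pow_right k, Nat.dvd_one, orderOf_eq_one_iff] at h2
      exact Subtype.ext h2
    exact qd_congr (MulEquiv.ofBijective _ ⟨hinj, π.subgroupMap_surjective _⟩)
      (qd_congr (Subgroup.subgroupOfEquivOfLe hSC).symm (hsd S))
  obtain ⟨F, iF, iF', hFodd, ⟨e⟩⟩ := Cfsg.Agent.S1240.result S (Or.inl (hsd S)) (index_ne_two_of_perfect hP)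
    (fun x y hx hy => (hconj x hx).symm.trans (hconj y hy)) z hzo
  set N := commutator (C ⧸ K)
  have hoddH : OddCyclic (C ⧸ K) := OddCyclic.of_surjective (OddCyclic.sub hodd C) π (QuotientGroup.mk'_surjective K)
  obtain ⟨p, hp, hcF⟩ := field_prime hoddH hFodd (N.subtype.comp (e.symm.toMonoidHom.comp unip))
    (N.subtype_injective.comp (e.symm.injective.comp
      (Function.Injective.of_comp (f := QuotientGroup.mk' (center SL(2, F))) unip_proj_injective)))
  haveI := Fact.mk hp
  have hp2 : p ≠ 2 := fun h => by rw [hcF, h] at hFodd; exact absurd hFodd (by decide)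
  obtain ⟨σ⟩ := Cfsg.Lib.EqualOrder.slCongr (FiniteField.ringEquivOfCardEq (K := F) (K' := ZMod p)
    (by rw [hcF, ZMod.card]))
  obtain ⟨hidx, u, huN, hu⟩ := sl_extension hp2 N (e.trans σ)
    Cfsg.Lib.Components.pPrimeCore_quotient_eq_bot (qd_all hTsd)
  refine no_setting (countSpec_of_model modelSpec) killSpec (z := z) (K := K) (p := p)
    ⟨hzo, hP, hconj, hsd, hodd, hKodd, ⟨hp, ?_, ?_, ?_, ⟨N, inferInstance, hidx, ⟨e.trans σ⟩, u, huN, hu⟩,
      qd_all hTsd⟩⟩
  · have := hp.two_le; omega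
  · set zC : C := ⟨z, mem_centralizer_singleton_iff.2 rfl⟩
    have hzC : orderOf zC = 2 := (Subgroup.orderOf_mk _ _).trans hzo
    refine orderOf_eq_prime ?_ fun h1 => ?_
    · rw [← QuotientGroup.mk_pow, ← hzC, pow_orderOf_eq_one, QuotientGroup.mk_one]
    · have h2 := K.orderOf_dvd_natCard ((QuotientGroup.eq_one_iff zC).1 h1)
      rw [hzC] at h2
      exact Nat.not_even_iff_odd.2 hKodd (even_iff_two_dvd.2 h2)
  · refine mem_center_iff.2 fun g => ?_
    obtain ⟨v, rfl⟩ := QuotientGroup.mk_surjective g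
    rw [← QuotientGroup.mk_mul, ← QuotientGroup.mk_mul]
    exact congrArg _ (Subtype.ext (mem_centralizer_singleton_iff.1 v.2))

end Cfsg.Lib.SemiCyclic
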