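import Cfsg.Agent.SemiCyclic.Reduce.SD

/-!
# Nonsolvable groups whose odd Sylow subgroups are cyclic and whose Sylow 2-subgroups have a cyclic subgroup of
index at most 2
-/

set_option autoImplicit false
set_option linter.style.haveILetI false
set_option linter.unusedSectionVars false

namespace Cfsg.Lib.SemiCyclic

open Subgroup Cfsg.Lib.Known.AutPSL2
open scoped MatrixGroups

universe u

/-- The Sylow 2-subgroups have cyclic subgroups of index at most 2. -/
def TwoCyclic (G : Type u) [Group G] : Prop :=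
  ∀ S : Sylow 2 G, ∃ C : Subgroup ↥(S : Subgroup G), IsCyclic C ∧ C.index ∣ 2

variable {G : Type u} [Group G] [Finite G]

theorem TwoCyclic.pgroup (h : TwoCyclic G) {P : Subgroup G} (hP : IsPGroup 2 P) :
    ∃ C : Subgroup ↥P, IsCyclic C ∧ C.index ∣ 2 := by
  haveI : Fact (Nat.Prime 2) := ⟨Nat.prime_two⟩
  obtain ⟨S, hS⟩ := hP.exists_le_sylow
  obtain ⟨C, hC, hi⟩ := h S
  haveI : C.Normal := by
    rcases (Nat.dvd_prime Nat.prime_two).1 hi with h | h
    · rw [index_eq_one.1 h]; infer_instance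
    · exact normal_of_index_eq_two h
  set f := inclusion hS
  refine ⟨C.comap f, ?_, ?_⟩
  · exact isCyclic_of_injective (f.subgroupComap C) fun a b h => Subtype.ext (inclusion_injective hS
      (congrArg Subtype.val h))
  · rw [index_comap]
    exact (relIndex_dvd_index_of_normal C f.range).trans hi

theorem TwoCyclic.sub (h : TwoCyclic G) (H : Subgroup G) : TwoCyclic ↥H := fun S => by
  obtain ⟨C, hC, hi⟩ := h.pgroup (P := (S : Subgroup H).map H.subtype) (S.2.map _)
  set e := (S : Subgroup H).equivMapOfInjective H.subtype H.subtype_injective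
  refine ⟨C.comap e.toMonoidHom, isCyclic_of_injective (e.toMonoidHom.subgroupComap C) fun a b h =>
    Subtype.ext (e.injective (congrArg Subtype.val h)), ?_⟩
  rwa [index_comap_of_surjective _ e.surjective]

/-- In a cyclic group an element is a power of each element whose order is a multiple of its own. -/
theorem mem_zpowers_cyclic {R : Type u} [Group R] [Finite R] [IsCyclic R] {a v : R} (h : orderOf v ∣ orderOf a) :
    v ∈ zpowers a := by
  classical
  haveI := Fintype.ofFinite R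
  set n := orderOf a
  have hle := IsCyclic.card_pow_eq_one_le (α := R) (n := n) (orderOf_pos a)
  have hsub : (zpowers a : Set R).toFinset ⊆ Finset.univ.filter fun x : R => x ^ n = 1 := fun x hx => by
    rw [Set.mem_toFinset] at hx
    refine Finset.mem_filter.2 ⟨Finset.mem_univ _, orderOf_dvd_iff_pow_eq_one.1 ?_⟩
    exact (Subgroup.orderOf_dvd_natCard (zpowers a) hx).trans (dvd_of_eq (Nat.card_zpowers a))
  have hcard : (zpowers a : Set R).toFinset.card = n := by
    rw [Set.toFinset_card, ← Nat.card_eq_fintype_card]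
    exact Nat.card_zpowers a
  have hv : v ∈ Finset.univ.filter fun x : R => x ^ n = 1 :=
    Finset.mem_filter.2 ⟨Finset.mem_univ _, orderOf_dvd_iff_pow_eq_one.1 h⟩
  rw [← Finset.eq_of_subset_of_card_le hsub (hle.trans hcard.ge), Set.mem_toFinset] at hv
  exact hv

/-- Three commuting involutions generate a four group at most. -/
theorem TwoCyclic.three (h : TwoCyclic G) {x y v : G} (hx : orderOf x = 2) (hy : orderOf y = 2) (hv : orderOf v = 2)
    (hxy : Commute x y) (hxv : Commute x v) (hyv : Commute y v) (hne : x ≠ y) : v = x ∨ v = y ∨ v = x * y := by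
  haveI : Fact (Nat.Prime 2) := ⟨Nat.prime_two⟩
  by_contra hcon
  push Not at hcon
  obtain ⟨hvx, hvy, hvxy⟩ := hcon
  have hsq : ∀ {w : G}, orderOf w = 2 → w * w = 1 := fun {w} hw => by
    rw [← pow_two]; exact orderOf_dvd_iff_pow_eq_one.1 (dvd_of_eq hw)
  set U := closure ({x, y, v} : Set G)
  have hc : IsMulCommutative U := isMulCommutative_closure (by
    rintro p (rfl | rfl | rfl) q (rfl | rfl | rfl)
    exacts [rfl, hxy, hxv, hxy.symm, rfl, hyv, hxv.symm, hyv.symm, rfl])
  have hU : IsPGroup 2 U := fun w => ⟨1, Subtype.ext (by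
    obtain ⟨w, hw⟩ := w
    show w ^ 2 ^ 1 = 1
    rw [pow_one]
    induction hw using closure_induction with
    | mem p hp => rcases hp with rfl | rfl | rfl <;> rw [pow_two] <;> exact hsq (by assumption)
    | one => exact one_pow _
    | mul p q hp hq ihp ihq =>
      have hpq : Commute p q := congrArg Subtype.val (hc.is_comm.comm ⟨p, hp⟩ ⟨q, hq⟩)
      rw [hpq.mul_pow, ihp, ihq, one_mul]
    | inv p hp ih => rw [inv_pow, ih, inv_one])⟩
  obtain ⟨A, hA, hAi⟩ := h.pgroup hU
  set X : U := ⟨x, subset_closure (by simp)⟩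
  set Y : U := ⟨y, subset_closure (by simp)⟩
  set V : U := ⟨v, subset_closure (by simp)⟩
  have ho : orderOf X = 2 ∧ orderOf Y = 2 ∧ orderOf V = 2 :=
    ⟨(Subgroup.orderOf_mk _ _).trans hx, (Subgroup.orderOf_mk _ _).trans hy, (Subgroup.orderOf_mk _ _).trans hv⟩
  have huniq : ∀ {s t : U}, s ∈ A → t ∈ A → orderOf s = 2 → orderOf t = 2 → (s : G) = t := fun {s t} hs ht hso hto =>
    congrArg (fun w : A => ((w : U) : G)) (unique_invol_cyclic (x := (⟨s, hs⟩ : A)) (y := ⟨t, ht⟩)
      ((Subgroup.orderOf_mk _ _).trans hso) ((Subgroup.orderOf_mk _ _).trans hto))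
  have hmul : ∀ {s t : U}, s ∉ A → t ∉ A → s * t ∈ A := fun {s t} hs ht => by
    rcases (Nat.dvd_prime Nat.prime_two).1 hAi with h1 | h1
    · exact absurd ((index_eq_one.1 h1).symm ▸ mem_top s) hs
    · exact (mul_mem_iff_of_index_two h1).2 (iff_of_false hs ht)
  have hprod : ∀ {s t : G} {S T : U}, (S : G) = s → (T : G) = t → orderOf s = 2 → orderOf t = 2 → Commute s t →
      s ≠ t → orderOf (S * T) = 2 := fun {s t S T} eS eT hs ht hst hn => by
    rw [← Subgroup.orderOf_coe, Subgroup.coe_mul, eS, eT]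
    refine orderOf_eq_prime ?_ fun e => hn ?_
    · rw [hst.mul_pow, pow_two, pow_two, hsq hs, hsq ht, one_mul]
    · rw [← mul_one s, ← hsq ht, ← mul_assoc, e, one_mul]
  by_cases aX : X ∈ A
  · have aY : Y ∉ A := fun a => hne (huniq aX a ho.1 ho.2.1)
    have aV : V ∉ A := fun a => hvx (huniq a aX ho.2.2 ho.1)
    have e := huniq (hmul aY aV) aX (hprod rfl rfl hy hv hyv (Ne.symm hvy)) ho.1
    change y * v = x at e
    exact hvxy (by rw [hxy.eq, ← e, ← mul_assoc, hsq hy, one_mul])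
  by_cases aY : Y ∈ A
  · have aV : V ∉ A := fun a => hvy (huniq a aY ho.2.2 ho.2.1)
    have e := huniq (hmul aX aV) aY (hprod rfl rfl hx hv hxv (Ne.symm hvx)) ho.2.1
    change x * v = y at e
    exact hvxy (by rw [← e, ← mul_assoc, hsq hx, one_mul])
  have hXY := hprod (S := X) (T := Y) rfl rfl hx hy hxy hne
  by_cases aV : V ∈ A
  · exact hvxy (huniq aV (hmul aX aY) ho.2.2 hXY)
  · have e := huniq (hmul aX aY) (hmul aX aV) hXY (hprod rfl rfl hx hv hxv (Ne.symm hvx))
    change x * y = x * v at e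
    exact hvy (mul_left_cancel e).symm

/-- A 2-element centralizing two noncommuting elements of a 2-subgroup lies in the subgroup they generate. -/
theorem TwoCyclic.quaternion (h : TwoCyclic G) {x y v : G} (hP : IsPGroup 2 (closure ({x, y} : Set G)))
    (hv : IsPGroup 2 (zpowers v)) (hxv : Commute v x) (hyv : Commute v y) (hne : x * y ≠ y * x) :
    v ∈ closure ({x, y} : Set G) := by
  haveI : Fact (Nat.Prime 2) := ⟨Nat.prime_two⟩
  set P := closure ({x, y} : Set G)
  have hcent : ∀ w ∈ P, Commute v w := fun w hw => by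
    induction hw using closure_induction with
    | mem p hp => rcases hp with rfl | rfl <;> assumption
    | one => exact Commute.one_right _
    | mul p q _ _ ihp ihq => exact ihp.mul_right ihq
    | inv p _ ih => exact ih.inv_right
  have hnorm : zpowers v ≤ normalizer (P : Set G) := zpowers_le.2 (centralizer_le_normalizer _
    (mem_centralizer_iff.2 fun w hw => (hcent w hw).eq.symm))
  set U := zpowers v ⊔ P
  obtain ⟨A, hA, hAi⟩ := h.pgroup (hv.to_sup_of_normal_right' hP hnorm)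
  have hU2 : IsPGroup 2 U := hv.to_sup_of_normal_right' hP hnorm
  set X : U := ⟨x, mem_sup_right (subset_closure (by simp))⟩
  set Y : U := ⟨y, mem_sup_right (subset_closure (by simp))⟩
  set V : U := ⟨v, mem_sup_left (mem_zpowers v)⟩
  have hcA : ∀ {s t : U}, s ∈ A → t ∈ A → Commute s t := fun {s t} hs ht => by
    letI : CommGroup A := IsCyclic.commGroup
    exact congrArg Subtype.val (mul_comm (⟨s, hs⟩ : A) ⟨t, ht⟩)
  have hne' : ¬ Commute X Y := fun h => hne (congrArg Subtype.val h.eq)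
  have hA2 : A.index = 2 := by
    rcases (Nat.dvd_prime Nat.prime_two).1 hAi with h1 | h1
    · exact absurd (hcA ((index_eq_one.1 h1).symm ▸ mem_top X) ((index_eq_one.1 h1).symm ▸ mem_top Y)) hne'
    · exact h1
  obtain ⟨a, w, haA, hwA, haw, haP, hwP⟩ : ∃ a w : U, a ∈ A ∧ w ∉ A ∧ ¬ Commute a w ∧ (a : G) ∈ P ∧ (w : G) ∈ P := by
    have hxP : (X : G) ∈ P := subset_closure (by simp [X])
    have hyP : (Y : G) ∈ P := subset_closure (by simp [Y])
    by_cases aX : X ∈ A
    · exact ⟨X, Y, aX, fun aY => hne' (hcA aX aY), hne', hxP, hyP⟩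
    by_cases aY : Y ∈ A
    · exact ⟨Y, X, aY, aX, fun h => hne' h.symm, hyP, hxP⟩
    refine ⟨X * Y, Y, (mul_mem_iff_of_index_two hA2).2 (iff_of_false aX aY), aY, fun h => hne' ?_,
      mul_mem hxP hyP, hyP⟩
    have := h.mul_left (Commute.refl Y).inv_left
    rwa [mul_inv_cancel_right] at this
  have hVw : Commute V w := Subtype.ext (hcent _ hwP).eq
  have hVA : V ∈ A := by
    by_contra hVA
    have h1 : V⁻¹ * w ∈ A := (mul_mem_iff_of_index_two hA2).2 (iff_of_false (fun h => hVA (inv_mem_iff.1 h)) hwA)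
    have hca : Commute a (V * (V⁻¹ * w)) := Commute.mul_right (Subtype.ext (hcent _ haP).eq.symm) (hcA haA h1)
    exact haw (by rwa [mul_inv_cancel_left] at hca)
  have hord : ∀ t : U, ∃ i, orderOf t = 2 ^ i := fun t => by
    obtain ⟨k, hk⟩ := hU2 t
    obtain ⟨i, -, hi⟩ := (Nat.dvd_prime_pow Nat.prime_two).1 (orderOf_dvd_of_pow_eq_one hk)
    exact ⟨i, hi⟩
  obtain ⟨i, hi⟩ := hord V
  obtain ⟨j, hj⟩ := hord a
  rcases le_total i j with hij | hij
  · have h1 := mem_zpowers_cyclic (a := (⟨a, haA⟩ : A)) (v := ⟨V, hVA⟩) (by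
      rw [Subgroup.orderOf_mk V hVA, Subgroup.orderOf_mk a haA, hi, hj]; exact pow_dvd_pow 2 hij)
    obtain ⟨k, hk⟩ := mem_zpowers_iff.1 h1
    have h2 : (a : G) ^ k = v := congrArg (fun t : A => ((t : U) : G)) hk
    exact h2 ▸ zpow_mem haP k
  · exfalso
    have h1 := mem_zpowers_cyclic (a := (⟨V, hVA⟩ : A)) (v := ⟨a, haA⟩) (by
      rw [Subgroup.orderOf_mk V hVA, Subgroup.orderOf_mk a haA, hi, hj]; exact pow_dvd_pow 2 hij)
    obtain ⟨k, hk⟩ := mem_zpowers_iff.1 h1
    have h2 : V ^ k = a := congrArg Subtype.val hk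
    exact haw (h2 ▸ hVw.zpow_left k)

/-- The matrices of order 4. -/
theorem exists_four_pair {p : ℕ} [Fact p.Prime] (hp : p ≠ 2) :
    ∃ i j : SL(2, ZMod p), i * j ≠ j * i ∧ i * i = -1 ∧ j * j = -1 ∧ i * j = -(j * i) := by
  obtain ⟨a, b, hab⟩ := CharP.sq_add_sq (ZMod p) p (-1)
  rw [Int.cast_neg, Int.cast_one] at hab
  let I : SL(2, ZMod p) := ⟨!![0, 1; -1, 0], by simp [Matrix.det_fin_two]⟩
  let J : SL(2, ZMod p) := ⟨!![(a : ZMod p), b; b, -(a : ZMod p)], by
    simp [Matrix.det_fin_two]; linear_combination -hab⟩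
  have hI : (I : Matrix (Fin 2) (Fin 2) (ZMod p)) = !![0, 1; -1, 0] := rfl
  have hJ : (J : Matrix (Fin 2) (Fin 2) (ZMod p)) = !![(a : ZMod p), b; b, -(a : ZMod p)] := rfl
  refine ⟨I, J, fun h => ?_, ?_, ?_, ?_⟩
  · have e := congrArg (fun A : SL(2, ZMod p) => (A : Matrix (Fin 2) (Fin 2) (ZMod p))) h
    simp only [cmul, hI, hJ] at e
    have e00 := congrFun (congrFun e 0) 0
    have e01 := congrFun (congrFun e 0) 1
    simp [Matrix.mul_apply, Fin.sum_univ_two] at e00 e01
    have h2 := two_ne hp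
    have hb : (b : ZMod p) = 0 :=
      (mul_eq_zero.1 (show (2 : ZMod p) * b = 0 by linear_combination e00)).resolve_left h2
    have ha : (a : ZMod p) = 0 :=
      (mul_eq_zero.1 (show (2 : ZMod p) * a = 0 by linear_combination -e01)).resolve_left h2
    rw [ha, hb] at hab
    simp at hab
  all_goals
    refine sl_ext ?_
    simp only [cmul, hI, hJ, Matrix.SpecialLinearGroup.coe_neg, Matrix.SpecialLinearGroup.coe_one]
    ext r s
    fin_cases r <;> fin_cases s <;> simp [Matrix.mul_apply, Fin.sum_univ_two]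
  all_goals first | linear_combination hab | ring

theorem sl_center_sq {p : ℕ} [Fact p.Prime] {c : SL(2, ZMod p)} (hc : c ∈ center SL(2, ZMod p)) : c * c = 1 := by
  obtain ⟨r, hr, e⟩ := Matrix.SpecialLinearGroup.mem_center_iff.1 hc
  refine sl_ext ?_
  rw [cmul, ← e]
  rw [Fintype.card_fin] at hr
  ext i j
  fin_cases i <;> fin_cases j <;> simp [← pow_two, hr]

theorem psl_center {p : ℕ} [Fact p.Prime] {c : Matrix.ProjectiveSpecialLinearGroup (Fin 2) (ZMod p)}
    (hc : c ∈ center (Matrix.ProjectiveSpecialLinearGroup (Fin 2) (ZMod p))) : c = 1 := by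
  obtain ⟨N, rfl⟩ := QuotientGroup.mk_surjective c
  have hfix : ∀ M : SL(2, ZMod p), (QuotientGroup.mk (conjSL (Matrix.SpecialLinearGroup.toGL N) M) :
      Matrix.ProjectiveSpecialLinearGroup (Fin 2) (ZMod p)) = QuotientGroup.mk M := fun M => by
    rw [conjSL_toGL, MulAut.conj_apply, QuotientGroup.mk_mul, QuotientGroup.mk_mul, QuotientGroup.mk_inv,
      ← mem_center_iff.1 hc, mul_inv_cancel_right]
  obtain ⟨h1, h2, h3⟩ := scalar_of_conjSL_fix (hfix (uS 1)) (hfix (vS 1))
  rw [QuotientGroup.eq_one_iff, Matrix.SpecialLinearGroup.mem_center_iff]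
  have hd := N.2
  have e1 : (N : Matrix (Fin 2) (Fin 2) (ZMod p)) 0 1 = 0 := h1
  have e2 : (N : Matrix (Fin 2) (Fin 2) (ZMod p)) 1 0 = 0 := h2
  have e3 : (N : Matrix (Fin 2) (Fin 2) (ZMod p)) 0 0 = (N : Matrix (Fin 2) (Fin 2) (ZMod p)) 1 1 := h3
  refine ⟨(N : Matrix (Fin 2) (Fin 2) (ZMod p)) 0 0, ?_, ?_⟩
  · rw [Fintype.card_fin]
    rw [Matrix.det_fin_two, e1, ← e3, zero_mul, sub_zero, ← pow_two] at hd
    exact hd
  · ext i j
    fin_cases i <;> fin_cases j <;> simp [e1, e2, e3]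

/-- If the 2-elements of a normal subgroup are central involutions of it then it has a normal 2-complement. -/
theorem exists_odd_part (C : Subgroup G) [hCn : C.Normal]
    (h : ∀ v ∈ C, IsPGroup 2 (zpowers v) → v * v = 1 ∧ ∀ w ∈ C, w * v = v * w) :
    ∃ X : Subgroup G, X.Normal ∧ X ≤ C ∧ Odd (Nat.card X) ∧
      ∀ c ∈ C, ∃ x ∈ X, ∃ v ∈ C, IsPGroup 2 (zpowers v) ∧ c = x * v := by
  haveI : Fact (Nat.Prime 2) := ⟨Nat.prime_two⟩
  obtain ⟨R⟩ : Nonempty (Sylow 2 C) := inferInstance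
  have hpow : ∀ w : C, w ∈ R → IsPGroup 2 (zpowers (w : G)) := fun w hw => by
    rw [show zpowers (w : G) = (zpowers w).map C.subtype by rw [MonoidHom.map_zpowers]; rfl]
    exact (R.2.to_le (zpowers_le.2 hw)).map _
  have hNC : normalizer ((R : Subgroup C) : Set C) ≤ centralizer ((R : Subgroup C) : Set C) :=
    fun y _ => mem_centralizer_iff.2 fun w hw => Subtype.ext (((h w w.2 (hpow w hw)).2 y y.2).symm)
  have hcomp := MonoidHom.ker_transferSylow_isComplement' R hNC
  set φ := MonoidHom.transferSylow R hNC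
  have hodd : Odd (Nat.card φ.ker) := by
    rw [← hcomp.index_eq_card, Nat.odd_iff]
    have := R.not_dvd_index
    omega
  refine ⟨φ.ker.map C.subtype, ⟨?_⟩, map_subtype_le _, ?_, fun c hc => ?_⟩
  · rintro _ ⟨k, hk, rfl⟩ g
    set y : C := ⟨g * C.subtype k * g⁻¹, hCn.conj_mem _ k.2 g⟩
    refine ⟨y, MonoidHom.mem_ker.2 ?_, rfl⟩
    have hy : y ^ Nat.card φ.ker = 1 := Subtype.ext (by
      rw [SubmonoidClass.coe_pow, conj_pow, Subgroup.coe_subtype, ← SubmonoidClass.coe_pow,
        show k ^ Nat.card φ.ker = 1 from congrArg Subtype.val (pow_card_eq_one' (x := (⟨k, hk⟩ : φ.ker)))]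
      simp)
    have h2 : (φ y) ^ 2 = 1 := Subtype.ext (Subtype.ext (by
      rw [pow_two]; exact (h _ (φ y : C).2 (hpow _ (φ y).2)).1))
    have h1 : orderOf (φ y) ∣ Nat.gcd (Nat.card φ.ker) 2 :=
      Nat.dvd_gcd (orderOf_dvd_of_pow_eq_one (by rw [← map_pow, hy, map_one])) (orderOf_dvd_of_pow_eq_one h2)
    rw [Nat.coprime_two_right.2 hodd, Nat.dvd_one, orderOf_eq_one_iff] at h1
    exact h1
  · rwa [card_map_of_injective C.subtype_injective]
  · obtain ⟨⟨⟨k, hk⟩, ⟨r, hr⟩⟩, hkr⟩ := hcomp.2 ⟨c, hc⟩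
    exact ⟨k, mem_map_of_mem C.subtype hk, r, r.2, hpow r hr, (congrArg Subtype.val hkr).symm⟩

theorem odd_coprime (hodd : OddCyclic G) {X M : Subgroup G} (hX : Odd (Nat.card X)) (hXM : X ⊓ M = ⊥)
    (hc : ∀ a ∈ X, ∀ b ∈ M, a * b = b * a) : (Nat.card X).Coprime (Nat.card M) := by
  refine Nat.coprime_of_dvd fun r hr hrX hrM => ?_
  haveI := Fact.mk hr
  have hr2 : r ≠ 2 := fun h => Nat.not_even_iff_odd.2 hX (even_iff_two_dvd.2 (h ▸ hrX))
  obtain ⟨a, ha⟩ := exists_prime_orderOf_dvd_card' r hrX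
  obtain ⟨b, hb⟩ := exists_prime_orderOf_dvd_card' r hrM
  rw [← Subgroup.orderOf_coe] at ha hb
  have hpa : IsPGroup r (zpowers (a : G)) := IsPGroup.of_card (n := 1) (by rw [Nat.card_zpowers, ha, pow_one])
  have hpb : IsPGroup r (zpowers (b : G)) := IsPGroup.of_card (n := 1) (by rw [Nat.card_zpowers, hb, pow_one])
  have hn : zpowers (a : G) ≤ normalizer (zpowers (b : G) : Set G) := zpowers_le.2 (centralizer_le_normalizer _
    (mem_centralizer_iff.2 fun w hw => by
      obtain ⟨k, rfl⟩ := mem_zpowers_iff.1 hw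
      exact (Commute.zpow_left (show Commute (b : G) a from (hc a a.2 b b.2).symm) k).eq))
  haveI := hodd.pgroup hr hr2 (hpa.to_sup_of_normal_right' hpb hn)
  have h := mem_zpowers_cyclic (a := (⟨b, mem_sup_right (mem_zpowers _)⟩ : ↥(zpowers (a : G) ⊔ zpowers (b : G))))
    (v := ⟨a, mem_sup_left (mem_zpowers _)⟩) (by rw [Subgroup.orderOf_mk, Subgroup.orderOf_mk, ha, hb])
  obtain ⟨k, hk⟩ := mem_zpowers_iff.1 h
  have e : (b : G) ^ k = a := congrArg Subtype.val hk
  have h1 : (a : G) ∈ X ⊓ M := ⟨a.2, e ▸ zpow_mem b.2 k⟩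
  rw [hXM, mem_bot] at h1
  rw [h1, orderOf_one] at ha
  exact hr.ne_one ha.symm

/-- The structure theorem. -/
theorem structure_main (hns : ¬ Group.IsSolvable G) (hodd : OddCyclic G) (h2 : TwoCyclic G) :
    ∃ G₀ : Subgroup G, G₀.Normal ∧ G₀.index ∣ 2 ∧
      ∃ X L : Subgroup ↥G₀, X.Normal ∧ L.Normal ∧ X ⊓ L = ⊥ ∧ X ⊔ L = ⊤ ∧ (Nat.card X).Coprime (Nat.card L) ∧
        Odd (Nat.card X) ∧ (∃ (C : Subgroup ↥X) (_ : C.Normal), IsCyclic C ∧ IsCyclic (↥X ⧸ C)) ∧
        ∃ (p : ℕ) (_ : Fact p.Prime), 5 ≤ p ∧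
          (Nonempty (↥L ≃* Matrix.ProjectiveSpecialLinearGroup (Fin 2) (ZMod p)) ∨
           Nonempty (↥L ≃* Matrix.SpecialLinearGroup (Fin 2) (ZMod p))) := by
  haveI : Fact (Nat.Prime 2) := ⟨Nat.prime_two⟩
  obtain ⟨n, hn⟩ := WellFoundedLT.antitone_chain_condition (derivedSeries_antitone G)
  set M := derivedSeries G n with hMdef
  haveI hMn : M.Normal := derivedSeries_normal G n
  have hMp : Group.IsPerfect M := Subgroup.isPerfect_iff.2 (by
    have e := hn (n + 1) (Nat.le_succ n)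
    rw [derivedSeries_succ] at e
    exact e.symm)
  haveI : Nontrivial M := (nontrivial_iff_ne_bot M).2 fun h => hns ⟨⟨n, h⟩⟩
  obtain ⟨p, hp, h5, he⟩ := perfect_main sdFree hMp.commutator_eq_top (hodd.sub M) (h2.sub M)
  have hp2 : p ≠ 2 := by omega
  set C := centralizer (M : Set G)
  haveI hCn : C.Normal := Subgroup.normal_centralizer
  have hcom : ∀ c ∈ C, ∀ m ∈ M, m * c = c * m := fun c hc m hm => mem_centralizer_iff.1 hc m hm
  have hcen : ∀ w : G, (hw : w ∈ M) → w ∈ C → (⟨w, hw⟩ : M) ∈ center M := fun w hw hc =>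
    mem_center_iff.2 fun g => Subtype.ext (hcom w hc g g.2)
  obtain ⟨i, j, hne, hii, hjj, hij⟩ := exists_four_pair (p := p) hp2
  have hmain : (∀ v ∈ C, IsPGroup 2 (zpowers v) → v ∈ M) ∧ (∀ v ∈ M, v ∈ C → v * v = 1) ∧
      (M ⊔ C).index ∣ 2 := by
    rcases he with ⟨⟨e⟩⟩ | ⟨⟨e⟩⟩
    · set f : SL(2, ZMod p) →* G := M.subtype.comp (e.symm.toMonoidHom.comp (QuotientGroup.mk' _))
      have hker : ∀ A : SL(2, ZMod p), f A = 1 → A ∈ center SL(2, ZMod p) := fun A hA =>
        (QuotientGroup.eq_one_iff A).1 (e.symm.injective (by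
          rw [map_one]; exact Subtype.ext hA))
      have hm1 : f (-1) = 1 := by
        have : (-1 : SL(2, ZMod p)) ∈ center SL(2, ZMod p) :=
          mem_center_iff.2 fun g => by simp
        show ((e.symm (QuotientGroup.mk (-1 : SL(2, ZMod p))) : M) : G) = 1
        rw [(QuotientGroup.eq_one_iff _).2 this, map_one]
        rfl
      have hfi : ∀ A, f A ∈ M := fun A => (e.symm _).2
      have hone : ∀ v ∈ M, v ∈ C → v = 1 := fun v hv hc => by
        have h1 : e ⟨v, hv⟩ = 1 := psl_center (mem_center_iff.2 fun g => by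
          obtain ⟨w, rfl⟩ := e.surjective g
          rw [← map_mul, ← map_mul, mem_center_iff.1 (hcen v hv hc) w])
        exact congrArg Subtype.val (e.injective (h1.trans (map_one e).symm))
      have hinv : ∀ A : SL(2, ZMod p), A * A = -1 → (∀ B, B * A = A * B → True) → ¬ A ∈ center SL(2, ZMod p) →
          orderOf (f A) = 2 := fun A hA _ hAc => by
        refine orderOf_eq_prime ?_ fun h => hAc (hker A h)
        rw [pow_two, ← map_mul, hA, hm1]
      have hxo := hinv i hii (fun _ _ => trivial) fun h => hne (mem_center_iff.1 h j).symm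
      have hyo := hinv j hjj (fun _ _ => trivial) fun h => hne (mem_center_iff.1 h i)
      have hxy : Commute (f i) (f j) := by
        have h1 : f (i * j) = f (-1 * (j * i)) := by rw [hij]; simp
        rwa [map_mul f (-1), hm1, one_mul, map_mul, map_mul] at h1
      have hne' : f i ≠ f j := fun h => by
        have h1 : f (i * j⁻¹) = 1 := by rw [map_mul, map_inv, h, mul_inv_cancel]
        have h2 : Commute (i * j⁻¹) j := (mem_center_iff.1 (hker _ h1) j).symm
        have h3 := h2.mul_left (Commute.refl j)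
        rw [inv_mul_cancel_right] at h3
        exact hne h3.eq
      refine ⟨fun v hv hv2 => ?_, fun v hv hc => by rw [hone v hv hc, mul_one], index_dvd_two_of_psl M e⟩
      by_contra hvM
      have hv1 : v ≠ 1 := fun h => hvM (h ▸ one_mem M)
      obtain ⟨⟨v', hv'⟩, hvo⟩ := exists_prime_orderOf_dvd_card' (G := zpowers v) 2 (by
        obtain ⟨k, hk⟩ := IsPGroup.iff_card.1 hv2
        rw [hk]
        refine dvd_pow_self 2 fun h0 => hv1 ?_
        rw [h0, pow_zero, Nat.card_zpowers, orderOf_eq_one_iff] at hk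
        exact hk)
      rw [Subgroup.orderOf_mk] at hvo
      have hv'C : v' ∈ C := zpowers_le.2 hv hv'
      have hv'M : v' ∈ M := by
        rcases h2.three hxo hyo hvo hxy (hcom _ hv'C _ (hfi i)) (hcom _ hv'C _ (hfi j)) hne' with h | h | h <;>
          rw [h]
        exacts [hfi i, hfi j, mul_mem (hfi i) (hfi j)]
      rw [hone _ hv'M hv'C, orderOf_one] at hvo
      omega
    · set f : SL(2, ZMod p) →* G := M.subtype.comp e.symm.toMonoidHom
      have hfi : ∀ A, f A ∈ M := fun A => (e.symm _).2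
      refine ⟨fun v hv hv2 => ?_, fun v hv hc => ?_, index_dvd_two_of_sl hp2 M e⟩
      · obtain ⟨i', j', hne', hQ⟩ := Cfsg.Lib.Classical.SLTwoTori.exists_quaternion_pair (F := ZMod p) (two_ne hp2)
        refine (closure_le M).2 ?_ (h2.quaternion (x := f i') (y := f j') ?_ hv2 (hcom v hv _ (hfi i')).symm
          (hcom v hv _ (hfi j')).symm ?_)
        · rintro _ (rfl | rfl) <;> exact hfi _
        · rw [← Set.image_pair, ← MonoidHom.map_closure]
          exact hQ.map f
        · rw [← map_mul, ← map_mul]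
          exact fun h => hne' (e.symm.injective (M.subtype_injective h))
      · have h1 := sl_center_sq (mem_center_iff.2 fun g => by
          obtain ⟨w, rfl⟩ := e.surjective g
          rw [← map_mul, ← map_mul, mem_center_iff.1 (hcen v hv hc) w] : e ⟨v, hv⟩ ∈ center SL(2, ZMod p))
        rw [← map_mul, ← map_one e] at h1
        exact congrArg Subtype.val (e.injective h1)
  obtain ⟨h2el, hsq, hidx⟩ := hmain
  obtain ⟨X, hXn, hXC, hXodd, hXdec⟩ := exists_odd_part C fun v hv hv2 =>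
    ⟨hsq v (h2el v hv hv2) hv, fun w hw => (hcom w hw v (h2el v hv hv2)).symm⟩
  have hXM : X ⊓ M = ⊥ := eq_bot_iff.2 fun v hv => by
    have h1 : orderOf v ∣ Nat.gcd (Nat.card X) 2 := Nat.dvd_gcd (X.orderOf_dvd_natCard hv.1)
      (orderOf_dvd_of_pow_eq_one (by rw [pow_two]; exact hsq v hv.2 (hXC hv.1)))
    rw [Nat.coprime_two_right.2 hXodd, Nat.dvd_one, orderOf_eq_one_iff] at h1
    exact mem_bot.2 h1
  have hsup : X ⊔ M = M ⊔ C := by
    refine le_antisymm (sup_le (hXC.trans le_sup_right) le_sup_left) (sup_le le_sup_right fun c hc => ?_)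
    obtain ⟨x, hx, v, hv, hv2, rfl⟩ := hXdec c hc
    exact mul_mem (mem_sup_left hx) (mem_sup_right (h2el v hv hv2))
  haveI := hXn
  set G₀ := X ⊔ M with hG₀
  refine ⟨G₀, inferInstance, hsup.symm ▸ hidx, X.subgroupOf G₀, M.subgroupOf G₀, inferInstance, inferInstance, ?_, ?_,
    ?_, ?_, ?_, p, hp, h5, ?_⟩
  · refine eq_bot_iff.2 fun v hv => mem_bot.2 (Subtype.ext ?_)
    have h1 : (v : G) ∈ X ⊓ M := ⟨mem_subgroupOf.1 hv.1, mem_subgroupOf.1 hv.2⟩
    rwa [hXM, mem_bot] at h1
  · exact (subgroupOf_sup (le_sup_left : X ≤ G₀) (le_sup_right : M ≤ G₀)).symm.trans (subgroupOf_self G₀)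
  · rw [Nat.card_congr (subgroupOfEquivOfLe (le_sup_left : X ≤ G₀)).toEquiv,
      Nat.card_congr (subgroupOfEquivOfLe (le_sup_right : M ≤ G₀)).toEquiv]
    exact odd_coprime hodd hXodd hXM fun a ha b hb => (hcom a (hXC ha) b hb).symm
  · rwa [Nat.card_congr (subgroupOfEquivOfLe (le_sup_left : X ≤ G₀)).toEquiv]
  · haveI := (hodd.sub G₀).zgroup (K := X.subgroupOf G₀) (by
      rwa [Nat.card_congr (subgroupOfEquivOfLe (le_sup_left : X ≤ G₀)).toEquiv])
    exact ⟨_root_.commutator ↥(X.subgroupOf G₀), inferInstance, IsZGroup.isCyclic_commutator _,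
      IsZGroup.isCyclic_abelianization⟩
  · exact he.imp (fun ⟨e⟩ => ⟨(subgroupOfEquivOfLe le_sup_right).trans e⟩)
      fun ⟨e⟩ => ⟨(subgroupOfEquivOfLe le_sup_right).trans e⟩

end Cfsg.Lib.SemiCyclic
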