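import Cfsg.Agent.SemiCyclic.Reduce.Shapes
import Cfsg.Agent.GWDihedral.Main
import Cfsg.Agent.GWDihedral.Consumers.RankOne
import Cfsg.Agent.ClassSizePSL.General
import Cfsg.Agent.EqualOrder.Quaternion

/-!
# Perfect groups whose odd Sylow subgroups are cyclic and whose Sylow 2-subgroups have a cyclic subgroup of index
at most 2
-/

set_option autoImplicit false
set_option linter.style.haveILetI false
set_option linter.unusedSectionVars false

namespace Cfsg.Lib.SemiCyclic

open Subgroup
open scoped MatrixGroups commutatorElement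

universe u

/-- The hypothesis of the reduction: no perfect group of this kind has semidihedral Sylow 2-subgroups. -/
def SDFree : Prop :=
  ∀ (G : Type u) [Group G] [Finite G], commutator G = ⊤ →
    (∀ S : Sylow 2 G, Cfsg.IsQuasiDihedral ↥(S : Subgroup G)) →
    (∀ r : ℕ, r.Prime → r ≠ 2 → ∀ R : Sylow r G, IsCyclic ↥(R : Subgroup G)) → False

/-- All odd Sylow subgroups are cyclic. -/
def OddCyclic (G : Type u) [Group G] : Prop :=
  ∀ r : ℕ, r.Prime → r ≠ 2 → ∀ R : Sylow r G, IsCyclic ↥(R : Subgroup G)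

variable {G : Type u} [Group G] [Finite G]

theorem OddCyclic.pgroup (h : OddCyclic G) {r : ℕ} (hr : r.Prime) (h2 : r ≠ 2) {P : Subgroup G} (hP : IsPGroup r P) :
    IsCyclic P := by
  haveI := Fact.mk hr
  obtain ⟨R, hR⟩ := hP.exists_le_sylow
  haveI := h r hr h2 R
  exact isCyclic_of_injective (inclusion hR) (inclusion_injective hR)

theorem OddCyclic.sub (h : OddCyclic G) (H : Subgroup G) : OddCyclic ↥H := fun r hr h2 R =>
  ((R : Subgroup H).equivMapOfInjective H.subtype H.subtype_injective).isCyclic.2 (h.pgroup hr h2 (R.2.map _))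

theorem OddCyclic.of_surjective {Q : Type u} [Group Q] [Finite Q] (h : OddCyclic G) (f : G →* Q)
    (hf : Function.Surjective f) : OddCyclic Q := fun r hr h2 R => by
  haveI := Fact.mk hr
  obtain ⟨P⟩ : Nonempty (Sylow r G) := inferInstance
  obtain ⟨g, hg⟩ := MulAction.exists_smul_eq Q (P.mapSurjective hf) R
  haveI := h r hr h2 P
  haveI : IsCyclic ↥((P.mapSurjective hf : Sylow r Q) : Subgroup Q) :=
    isCyclic_of_surjective (f.subgroupMap (P : Subgroup G)) (f.subgroupMap_surjective _)
  rw [← hg]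
  exact (Sylow.equiv (P.mapSurjective hf) (g • P.mapSurjective hf)).isCyclic.1 inferInstance

theorem OddCyclic.zgroup (h : OddCyclic G) {K : Subgroup G} (hK : Odd (Nat.card K)) : IsZGroup ↥K := ⟨fun r hr P => by
  haveI := Fact.mk hr
  by_cases h2 : r = 2
  · subst h2
    obtain ⟨i, hi⟩ := IsPGroup.iff_card.1 P.2
    have hd : 2 ^ i ∣ Nat.card K := hi ▸ card_subgroup_dvd_card _
    rcases Nat.eq_zero_or_pos i with rfl | hi0
    · rw [pow_zero] at hi
      rw [eq_bot_of_card_eq _ hi]
      infer_instance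
    · exact absurd (even_iff_two_dvd.2 ((dvd_pow_self 2 hi0.ne').trans hd)) (Nat.not_even_iff_odd.2 hK)
  · exact h.sub K r hr h2 P⟩

/-- Two commuting elements of order 3 generate the same subgroup. -/
theorem OddCyclic.three_unique (h : OddCyclic G) {a b : G} (ha : a ^ 3 = 1) (hb : b ^ 3 = 1) (hab : a * b = b * a) :
    a = 1 ∨ b = 1 ∨ b = a ∨ b = a⁻¹ := by
  haveI : Fact (Nat.Prime 3) := ⟨Nat.prime_three⟩
  by_contra hcon
  push Not at hcon
  obtain ⟨ha1, hb1, hba, hba'⟩ := hcon
  set U := closure ({a, b} : Set G)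
  have hc : IsMulCommutative U := isMulCommutative_closure (by
    rintro p (rfl | rfl) q (rfl | rfl)
    exacts [rfl, hab, hab.symm, rfl])
  have hU : IsPGroup 3 U := fun v => ⟨1, Subtype.ext (by
    obtain ⟨v, hv⟩ := v
    show v ^ 3 ^ 1 = 1
    rw [pow_one]
    induction hv using closure_induction with
    | mem p hp => rcases hp with rfl | rfl <;> assumption
    | one => exact one_pow _
    | mul p q hp hq ihp ihq =>
      have hpq : Commute p q := congrArg Subtype.val (hc.is_comm.comm ⟨p, hp⟩ ⟨q, hq⟩)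
      rw [hpq.mul_pow, ihp, ihq, one_mul]
    | inv p hp ih => rw [inv_pow, ih, inv_one])⟩
  haveI := h.pgroup Nat.prime_three (by norm_num) hU
  classical
  haveI := Fintype.ofFinite U
  set A : U := ⟨a, subset_closure (by simp)⟩
  set B : U := ⟨b, subset_closure (by simp)⟩
  have hle := IsCyclic.card_pow_eq_one_le (α := U) (n := 3) (by norm_num)
  have hsub : ({1, A, A⁻¹, B} : Finset U) ⊆ Finset.univ.filter fun v : U => v ^ 3 = 1 := by
    intro v hv
    simp only [Finset.mem_insert, Finset.mem_singleton] at hv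
    refine Finset.mem_filter.2 ⟨Finset.mem_univ _, ?_⟩
    rcases hv with rfl | rfl | rfl | rfl
    · exact one_pow _
    · exact Subtype.ext ha
    · rw [inv_pow, show A ^ 3 = 1 from Subtype.ext ha, inv_one]
    · exact Subtype.ext hb
  have hAA : A ≠ A⁻¹ := fun e => ha1 (by
    have e' : a = a⁻¹ := congrArg Subtype.val e
    have h2 : a * a = 1 := by
      nth_rw 2 [e']
      exact mul_inv_cancel a
    rwa [pow_succ, pow_two, h2, one_mul] at ha)
  have h4 : ({1, A, A⁻¹, B} : Finset U).card = 4 := by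
    rw [Finset.card_insert_of_notMem, Finset.card_insert_of_notMem, Finset.card_pair]
    · exact fun e => hba' (congrArg Subtype.val e).symm
    · simp only [Finset.mem_insert, Finset.mem_singleton, not_or]
      exact ⟨hAA, fun e => hba (congrArg Subtype.val e).symm⟩
    · simp only [Finset.mem_insert, Finset.mem_singleton, not_or]
      exact ⟨fun e => ha1 (congrArg Subtype.val e).symm,
        fun e => ha1 (inv_eq_one.1 (congrArg Subtype.val e).symm),
        fun e => hb1 (congrArg Subtype.val e).symm⟩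
  have := (Finset.card_le_card hsub).trans hle
  omega

theorem not_alt_seven (h : OddCyclic G) : IsEmpty (G ≃* alternatingGroup (Fin 7)) := by
  refine ⟨fun e => ?_⟩
  let a : alternatingGroup (Fin 7) :=
    ⟨Equiv.swap 0 1 * Equiv.swap 1 2, by rw [Equiv.Perm.mem_alternatingGroup]; decide⟩
  let b : alternatingGroup (Fin 7) :=
    ⟨Equiv.swap 3 4 * Equiv.swap 4 5, by rw [Equiv.Perm.mem_alternatingGroup]; decide⟩
  have h1 : a ^ 3 = 1 ∧ b ^ 3 = 1 ∧ a * b = b * a ∧ a ≠ 1 ∧ b ≠ 1 ∧ b ≠ a ∧ b ≠ a⁻¹ := by decide +kernel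
  obtain ⟨p1, p2, p3, p4, p5, p6, p7⟩ := h1
  rcases h.three_unique (a := e.symm a) (b := e.symm b) (by rw [← map_pow, p1, map_one])
    (by rw [← map_pow, p2, map_one]) (by rw [← map_mul, ← map_mul, p3]) with q | q | q | q
  · exact p4 (by simpa using congrArg e q)
  · exact p5 (by simpa using congrArg e q)
  · exact p6 (by simpa using congrArg e q)
  · exact p7 (by simpa using congrArg e q)

/-- The root subgroup. -/
def unip {F : Type} [Field F] : Multiplicative F →* SL(2, F) where
  toFun x := ⟨!![1, Multiplicative.toAdd x; 0, 1], by simp [Matrix.det_fin_two]⟩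
  map_one' := by ext i j; fin_cases i <;> fin_cases j <;> simp
  map_mul' x y := Subtype.ext (by
    show !![1, Multiplicative.toAdd (x * y); 0, 1] =
      (!![1, Multiplicative.toAdd x; 0, 1] : Matrix (Fin 2) (Fin 2) F) * !![1, Multiplicative.toAdd y; 0, 1]
    ext i j
    fin_cases i <;> fin_cases j <;> simp [Matrix.mul_apply, Fin.sum_univ_two, add_comm])

theorem unip_proj_injective {F : Type} [Field F] :
    Function.Injective ((QuotientGroup.mk' (center SL(2, F))).comp (unip (F := F))) := by
  rw [injective_iff_map_eq_one]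
  intro x hx
  obtain ⟨r, -, hr⟩ := Matrix.SpecialLinearGroup.mem_center_iff.1 ((QuotientGroup.eq_one_iff _).1 hx)
  have h01 := congrFun (congrFun hr 0) 1
  change _ = Multiplicative.toAdd x at h01
  simp at h01
  exact Multiplicative.toAdd.injective h01.symm

/-- With cyclic odd Sylow subgroups the field is a prime field. -/
theorem field_prime (h : OddCyclic G) {F : Type} [Field F] [Fintype F] (hodd : Odd (Fintype.card F))
    (f : Multiplicative F →* G) (hf : Function.Injective f) : ∃ p : ℕ, p.Prime ∧ Fintype.card F = p := by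
  obtain ⟨p, hp⟩ := CharP.exists F
  haveI : Fact p.Prime := ⟨CharP.char_is_prime F p⟩
  obtain ⟨k, hpp, hk⟩ := FiniteField.card F p
  have hp2 : p ≠ 2 := by
    rintro rfl
    rw [hk] at hodd
    exact Nat.not_even_iff_odd.2 hodd ((Nat.even_pow).2 ⟨even_two, k.pos.ne'⟩)
  have hex : ∀ x : Multiplicative F, x ^ p = 1 := fun x => Multiplicative.toAdd.injective (by simp)
  have hR : IsPGroup p f.range := fun v => ⟨1, by
    obtain ⟨x, hx⟩ := v.2
    refine Subtype.ext ?_
    show (v : G) ^ p ^ 1 = 1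
    rw [pow_one, ← hx, ← map_pow, hex, map_one]⟩
  haveI := h.pgroup hpp hp2 hR
  refine ⟨p, hpp, le_antisymm ?_ (hk ▸ Nat.le_self_pow k.pos.ne' p)⟩
  classical
  haveI := Fintype.ofFinite f.range
  have hle := IsCyclic.card_pow_eq_one_le (α := f.range) (n := p) hpp.pos
  refine le_trans (le_of_eq ?_) hle
  rw [Finset.filter_true_of_mem, Finset.card_univ, ← Nat.card_eq_fintype_card (α := f.range),
    ← Nat.card_congr (MonoidHom.ofInjective hf).toEquiv, ← Nat.card_eq_fintype_card]
  · exact (Nat.card_congr Multiplicative.toAdd).symm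
  · rintro ⟨_, x, rfl⟩ -
    exact Subtype.ext (by rw [SubmonoidClass.coe_pow, ← map_pow, hex, map_one, OneMemClass.coe_one])

/-- An element of order prime to `r` acts trivially, so a perfect group has no central `r`-elements, `r` odd. -/
theorem central_eq_one (h : OddCyclic G) (hP : commutator G = ⊤) {r : ℕ} [hr : Fact r.Prime] (hr2 : r ≠ 2) {x : G}
    (hx : x ∈ center G) (hxo : orderOf x = r) : False := by
  obtain ⟨P, hPx⟩ := (show IsPGroup r (zpowers x) from IsPGroup.of_card (n := 1) (by
    rw [Nat.card_zpowers, hxo, pow_one])).exists_le_sylow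
  haveI := h r hr.out hr2 P
  have hxP : x ∈ P := hPx (mem_zpowers x)
  have hx1 : x ≠ 1 := fun e => by rw [e, orderOf_one] at hxo; exact hr.out.ne_one hxo.symm
  have hNC : normalizer ((P : Subgroup G) : Set G) ≤ centralizer ((P : Subgroup G) : Set G) := by
    intro y hy
    set n := orderOf y
    set A := r ^ n.factorization r
    set B := n / A
    have hn : n ≠ 0 := (orderOf_pos y).ne'
    have hAB : A * B = n := Nat.mul_div_cancel' (Nat.ordProj_dvd n r)
    have hcop : A.Coprime B := (Nat.coprime_ordCompl hr.out hn).pow_left _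
    obtain ⟨s, t, hst⟩ : ∃ s t : ℤ, (A : ℤ) * s + (B : ℤ) * t = 1 :=
      ⟨Nat.gcdA A B, Nat.gcdB A B, by rw [← Nat.gcd_eq_gcd_ab, hcop]; rfl⟩
    rw [← zpow_one y, ← hst, zpow_add]
    refine mul_mem (centralizes_of_fix P.2 (zpow_mem hy _) ?_ hxP hx1 (mem_center_iff.1 hx _)) ?_
    · have : orderOf (y ^ ((A : ℤ) * s)) ∣ B := orderOf_dvd_of_pow_eq_one (by
        rw [← zpow_natCast, ← zpow_mul, show (A : ℤ) * s * B = ((A * B : ℕ) : ℤ) * s by push_cast; ring, zpow_mul,
          zpow_natCast, hAB, pow_orderOf_eq_one, one_zpow])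
      exact ((Nat.coprime_ordCompl hr.out hn).symm).coprime_dvd_left this
    · have hbp : IsPGroup r (zpowers (y ^ ((B : ℤ) * t))) := by
        refine IsPGroup.of_card_dvd_pow (n := n.factorization r) ?_
        rw [Nat.card_zpowers]
        refine orderOf_dvd_of_pow_eq_one ?_
        rw [← zpow_natCast, ← zpow_mul, show (B : ℤ) * t * (A : ℕ) = ((A * B : ℕ) : ℤ) * t by push_cast; ring,
          zpow_mul, zpow_natCast, hAB, pow_orderOf_eq_one, one_zpow]
      have hmem : y ^ ((B : ℤ) * t) ∈ (P : Subgroup G) :=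
        ((le_inf le_rfl (zpowers_le.2 (zpow_mem hy _))).trans (hbp.inf_normalizer_sylow P).le).trans inf_le_right
          (mem_zpowers _)
      refine mem_centralizer_iff.2 fun v hv => ?_
      letI : CommGroup (P : Subgroup G) := IsCyclic.commGroup
      exact congrArg Subtype.val (mul_comm (⟨v, hv⟩ : (P : Subgroup G)) ⟨_, hmem⟩)
  have hcomp := MonoidHom.ker_transferSylow_isComplement' P hNC
  set f := MonoidHom.transferSylow P hNC
  have hle : commutator G ≤ f.ker := by
    rw [_root_.commutator_def]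
    refine commutator_le.2 fun a _ b _ => ?_
    letI : CommGroup (P : Subgroup G) := IsCyclic.commGroup
    rw [MonoidHom.mem_ker, map_commutatorElement, commutatorElement_eq_one_iff_mul_comm]
    exact mul_comm _ _
  rw [hP, top_le_iff] at hle
  have h1 : x ∈ f.ker ⊓ (P : Subgroup G) := ⟨hle ▸ mem_top x, hxP⟩
  rw [hcomp.isCompl.inf_eq_bot, mem_bot] at h1
  exact hx1 h1

/-- The odd core of a perfect group of this kind is trivial. -/
theorem oddCore_eq_bot (h : OddCyclic G) (hP : commutator G = ⊤) : Cfsg.oddCore G = ⊥ := by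
  set K := Cfsg.oddCore G with hK
  have hodd : Odd (Nat.card K) := Nat.coprime_two_right.1 (Cfsg.Lib.Components.coprime_card_pPrimeCore 2)
  haveI : K.Normal := by rw [hK]; exact (inferInstance : (Cfsg.pPrimeCore 2 G).Normal)
  haveI := h.zgroup hodd
  set A : Subgroup G := ⁅K, K⁆ with hA
  haveI : A.Normal := commutator_normal K K
  haveI : IsCyclic A := by
    haveI := IsZGroup.isCyclic_commutator (G := ↥K)
    have e' : (commutator ↥K).map K.subtype = A := map_subtype_commutator K
    exact ((commutator ↥K).equivMapOfInjective K.subtype K.subtype_injective).trans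
      (MulEquiv.subgroupCongr e') |>.isCyclic.1 inferInstance
  have hcent : ∀ (Y : Subgroup G) [Y.Normal] [IsCyclic Y], Y ≤ center G := fun Y _ _ y hy => by
    have hab : ∀ f g : MulAut Y, f * g = g * f := fun f g => by
      obtain ⟨e⟩ : Nonempty (MulAut Y ≃* (ZMod (Nat.card Y))ˣ) := ⟨IsCyclic.mulAutMulEquiv Y⟩
      exact e.injective (by rw [map_mul, map_mul, mul_comm])
    have hle : commutator G ≤ (MulAut.conjNormal : G →* MulAut Y).ker := by
      rw [_root_.commutator_def]
      refine commutator_le.2 fun a _ b _ => ?_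
      rw [MonoidHom.mem_ker, map_commutatorElement, commutatorElement_eq_one_iff_mul_comm]
      exact hab _ _
    rw [hP, top_le_iff] at hle
    refine mem_center_iff.2 fun g => ?_
    have hg : (MulAut.conjNormal g : MulAut Y) = 1 := MonoidHom.mem_ker.1 (hle.symm ▸ mem_top g)
    have h1 := congrArg Subtype.val (MulEquiv.congr_fun hg ⟨y, hy⟩)
    rw [MulAut.conjNormal_apply] at h1
    exact mul_inv_eq_iff_eq_mul.1 h1
  have hAz := hcent A
  set q := QuotientGroup.mk' A
  haveI : (K.map q).Normal := (inferInstance : K.Normal).map _ (QuotientGroup.mk'_surjective A)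
  haveI : IsCyclic (Abelianization ↥K) := IsZGroup.isCyclic_abelianization
  haveI : IsCyclic ↥(K.map q) := by
    let f : Abelianization ↥K →* ↥(K.map q) :=
      @Abelianization.lift ↥K _ ↥(K.map q)
        { (inferInstance : Group ↥(K.map q)) with
          mul_comm := by
            rintro ⟨_, v, hv, rfl⟩ ⟨_, w, hw, rfl⟩
            refine Subtype.ext ?_
            show q v * q w = q w * q v
            rw [← commutatorElement_eq_one_iff_mul_comm, ← map_commutatorElement, ← MonoidHom.mem_ker,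
              QuotientGroup.ker_mk']
            exact commutator_mem_commutator hv hw }
        (q.subgroupMap K)
    exact isCyclic_of_surjective f fun v => by
      obtain ⟨w, hw⟩ := q.subgroupMap_surjective K v
      exact ⟨Abelianization.of w, hw⟩
  have hq : K.map q ≤ center (G ⧸ A) := by
    intro y hy
    have hab : ∀ f g : MulAut ↥(K.map q), f * g = g * f := fun f g => by
      obtain ⟨e⟩ : Nonempty (MulAut ↥(K.map q) ≃* (ZMod (Nat.card ↥(K.map q)))ˣ) := ⟨IsCyclic.mulAutMulEquiv _⟩
      exact e.injective (by rw [map_mul, map_mul, mul_comm])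
    have hle : commutator G ≤ ((MulAut.conjNormal : G ⧸ A →* MulAut ↥(K.map q)).comp q).ker := by
      rw [_root_.commutator_def]
      refine commutator_le.2 fun a _ b _ => ?_
      rw [MonoidHom.mem_ker, map_commutatorElement, commutatorElement_eq_one_iff_mul_comm]
      exact hab _ _
    rw [hP, top_le_iff] at hle
    refine mem_center_iff.2 fun g => ?_
    obtain ⟨g₀, rfl⟩ := QuotientGroup.mk'_surjective A g
    have h1 := congrArg Subtype.val (MulEquiv.congr_fun
      (MonoidHom.mem_ker.1 (show g₀ ∈ ((MulAut.conjNormal : G ⧸ A →* MulAut ↥(K.map q)).comp q).ker by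
        rw [hle]; exact mem_top g₀)) ⟨y, hy⟩)
    rw [MonoidHom.comp_apply, MulAut.conjNormal_apply] at h1
    exact mul_inv_eq_iff_eq_mul.1 h1
  -- a derivation into the centre is trivial
  have hKz : K ≤ center G := by
    intro k hk
    let d : G →* A :=
      { toFun := fun g => ⟨⁅g, k⁆, by
          rw [← QuotientGroup.ker_mk' A, MonoidHom.mem_ker, map_commutatorElement, commutatorElement_eq_one_iff_mul_comm]
          exact mem_center_iff.1 (hq (mem_map_of_mem q hk)) (q g)⟩
        map_one' := Subtype.ext (commutatorElement_one_left k)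
        map_mul' := fun a b => Subtype.ext (by
          have hb : ⁅b, k⁆ ∈ A := by
            rw [← QuotientGroup.ker_mk' A, MonoidHom.mem_ker, map_commutatorElement,
              commutatorElement_eq_one_iff_mul_comm]
            exact mem_center_iff.1 (hq (mem_map_of_mem q hk)) (q b)
          show ⁅a * b, k⁆ = ⁅a, k⁆ * ⁅b, k⁆
          have hc : a * ⁅b, k⁆ = ⁅b, k⁆ * a := mem_center_iff.1 (hAz hb) a
          have hc' : ⁅a, k⁆ * ⁅b, k⁆ = ⁅b, k⁆ * ⁅a, k⁆ := mem_center_iff.1 (hAz hb) _
          rw [hc']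
          calc ⁅a * b, k⁆ = a * ⁅b, k⁆ * (k * a⁻¹ * k⁻¹) := by simp only [commutatorElement_def]; group
            _ = ⁅b, k⁆ * ⁅a, k⁆ := by rw [hc]; simp only [commutatorElement_def]; group) }
    have hle : commutator G ≤ d.ker := by
      rw [_root_.commutator_def]
      refine commutator_le.2 fun a _ b _ => ?_
      rw [MonoidHom.mem_ker, map_commutatorElement, commutatorElement_eq_one_iff_mul_comm]
      exact Subtype.ext (mem_center_iff.1 (hAz (d b).2) _)
    rw [hP, top_le_iff] at hle
    refine mem_center_iff.2 fun g => ?_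
    have hg : d g = 1 := MonoidHom.mem_ker.1 (hle.symm ▸ mem_top g)
    have h1 : ⁅g, k⁆ = 1 := congrArg Subtype.val hg
    exact commutatorElement_eq_one_iff_mul_comm.1 h1
  by_contra hne
  obtain ⟨r, hr, hrd⟩ := Nat.exists_prime_and_dvd (n := Nat.card K) fun h1 => hne (eq_bot_of_card_eq _ h1)
  haveI := Fact.mk hr
  obtain ⟨x, hx⟩ := exists_prime_orderOf_dvd_card' r hrd
  exact central_eq_one h hP (fun h2 => Nat.not_even_iff_odd.2 hodd (even_iff_two_dvd.2 (h2 ▸ hrd))) (hKz x.2)
    ((Subgroup.orderOf_coe x).trans hx)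

theorem rank_one_of_quaternion (S : Sylow 2 G) {k : ℕ} (hk : 1 ≤ k)
    (e : (S : Subgroup G) ≃* QuaternionGroup (2 ^ k)) : Cfsg.PRankLE 2 1 G := by
  haveI : Fact (Nat.Prime 2) := ⟨Nat.prime_two⟩
  obtain ⟨n, rfl⟩ : ∃ n, k = n + 1 := ⟨k - 1, by omega⟩
  have huniq : ∀ x y : (S : Subgroup G), orderOf x = 2 → orderOf y = 2 → x = y := fun x y hx hy => by
    obtain ⟨h1, -⟩ := Nat.card_eq_one_iff_unique.1 (Cfsg.Agent.S0218.result n)
    have := h1.allEq ⟨e x, by rw [MulEquiv.orderOf_eq, hx]⟩ ⟨e y, by rw [MulEquiv.orderOf_eq, hy]⟩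
    exact e.injective (congrArg Subtype.val this)
  intro A _ hexp
  have hA : IsPGroup 2 A := fun v => ⟨1, Subtype.ext (by simpa using hexp v v.2)⟩
  obtain ⟨T, hT⟩ := hA.exists_le_sylow
  obtain ⟨g, hg⟩ := MulAction.exists_smul_eq G T S
  have hmem : ∀ v : A, g * (v : G) * g⁻¹ ∈ S := fun v => by
    rw [← hg]; exact ⟨v, hT v.2, rfl⟩
  rw [pow_one]
  classical
  refine le_trans (Nat.card_le_card_of_injective (fun v : A => if v = 1 then (0 : Fin 2) else 1) fun a b h => ?_)
    (Nat.card_fin 2).le
  by_cases ha : a = 1 <;> by_cases hb : b = 1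
  · rw [ha, hb]
  · simp only [ha, hb, ↓reduceIte] at h; exact absurd h (by decide)
  · simp only [ha, hb, ↓reduceIte] at h; exact absurd h (by decide)
  · have ho : ∀ v : A, v ≠ 1 → orderOf (⟨_, hmem v⟩ : (S : Subgroup G)) = 2 := fun v hv => by
      rw [Subgroup.orderOf_mk, ← MulAut.conj_apply, MulEquiv.orderOf_eq, Subgroup.orderOf_coe]
      exact orderOf_eq_prime (Subtype.ext (by simpa using hexp v v.2)) hv
    exact Subtype.ext (mul_left_cancel (mul_right_cancel (congrArg Subtype.val (huniq _ _ (ho a ha) (ho b hb)))))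

/-- The perfect groups. -/
theorem perfect_main (hSD : SDFree.{u}) [Nontrivial G] (hP : commutator G = ⊤) (hodd : OddCyclic G)
    (h2 : ∀ S : Sylow 2 G, ∃ C : Subgroup ↥(S : Subgroup G), IsCyclic C ∧ C.index ∣ 2) :
    ∃ (p : ℕ) (_ : Fact p.Prime), 5 ≤ p ∧
      (Nonempty (G ≃* Matrix.ProjectiveSpecialLinearGroup (Fin 2) (ZMod p)) ∨
        Nonempty (G ≃* Matrix.SpecialLinearGroup (Fin 2) (ZMod p))) := by
  haveI : Fact (Nat.Prime 2) := ⟨Nat.prime_two⟩
  haveI : Group.IsPerfect G := ⟨hP⟩
  obtain ⟨S⟩ : Nonempty (Sylow 2 G) := inferInstance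
  have eO : G ⧸ Cfsg.oddCore G ≃* G :=
    (QuotientGroup.quotientMulEquivOfEq (oddCore_eq_bot hodd hP)).trans QuotientGroup.quotientBot
  rcases perfect_shapes hP S (h2 S) with ⟨m, hm, hd⟩ | ⟨k, hk, ⟨e⟩⟩ | hqd
  · rcases Cfsg.Lib.GWD.perfect_case Cfsg.Lib.GWD.dihedralProp S hm hd with ⟨F, i, j, hF, h5, ⟨f⟩⟩ | ⟨⟨f⟩⟩
    · set f' := eO.symm.trans f
      obtain ⟨p, hp, hc⟩ := field_prime hodd hF
        (f'.symm.toMonoidHom.comp ((QuotientGroup.mk' (center SL(2, F))).comp unip))
        (f'.symm.injective.comp unip_proj_injective)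
      haveI := Fact.mk hp
      obtain ⟨σ⟩ := Cfsg.Lib.ClassSizePSL.psl_congr (F := F) (K := ZMod p) (by rw [hc, ZMod.card])
      exact ⟨p, ⟨hp⟩, hc ▸ h5, Or.inl ⟨f'.trans σ⟩⟩
    · exact ((not_alt_seven hodd).false (eO.symm.trans f)).elim
  · have heven : Even (Nat.card G) := by
      refine even_iff_two_dvd.2 (dvd_trans ?_ (card_subgroup_dvd_card (S : Subgroup G)))
      rw [Nat.card_congr e.toEquiv, Nat.card_eq_fintype_card, QuaternionGroup.card]
      exact ⟨2 * 2 ^ k, by ring⟩
    rcases Cfsg.Lib.GWD.perfect_rank_one Cfsg.Lib.GWD.dihedralProp ⟨hP⟩ (rank_one_of_quaternion S hk e) heven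
      with ⟨F, i, j, hF, h3, ⟨f⟩⟩ | ⟨-, ⟨f⟩, -⟩
    · set f' := eO.symm.trans f
      obtain ⟨p, hp, hc⟩ := field_prime hodd hF (f'.symm.toMonoidHom.comp unip)
        (f'.symm.injective.comp (Function.Injective.of_comp (f := QuotientGroup.mk' (center SL(2, F)))
          unip_proj_injective))
      haveI := Fact.mk hp
      obtain ⟨σ⟩ := Cfsg.Lib.EqualOrder.slCongr (FiniteField.ringEquivOfCardEq (K := F) (K' := ZMod p)
        (by rw [hc, ZMod.card]))
      have h5 : 5 ≤ p := by
        have ho := Nat.odd_iff.1 hF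
        omega
      exact ⟨p, ⟨hp⟩, h5, Or.inr ⟨f'.trans σ⟩⟩
    · exact ((not_alt_seven ((hodd.of_surjective (QuotientGroup.mk' (Cfsg.oddCore G))
        (QuotientGroup.mk'_surjective _)).of_surjective (QuotientGroup.mk' _) (QuotientGroup.mk'_surjective _))).false
          f).elim
  · refine (hSD G hP (fun T => ?_) hodd).elim
    obtain ⟨g, hg⟩ := MulAction.exists_smul_eq G S T
    obtain ⟨n, hn, hcd, a, b, ha, hb, hab⟩ := hqd
    have e := Sylow.equiv S T
    exact ⟨n, hn, (Nat.card_congr e.toEquiv).symm.trans hcd, e a, e b, by rw [MulEquiv.orderOf_eq, ha],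
      by rw [MulEquiv.orderOf_eq, hb], by rw [← map_inv, ← map_mul, ← map_mul, hab, map_pow]⟩

end Cfsg.Lib.SemiCyclic
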